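import Groth.Agent.H64.Stk.FpStack
import Mathlib.AlgebraicGeometry.Morphisms.LocalFlatDescent
import Mathlib.AlgebraicGeometry.Morphisms.Smooth

set_option autoImplicit false
open CategoryTheory CategoryTheory.Limits AlgebraicGeometry
universe v₄ u₄ v₃ u₃ v₂ u₂ v u

/-! The first projection of a 2-fibre product along a fully faithful functor is fully faithful;
smoothness over a field descends along the morphism itself. -/

namespace Groth.Agent.H64.GerbM

open Groth.Agent.H32 Groth.Agent.H64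

section fpFstFF

variable {C : Type u} [Category.{v} C]
variable {𝒳 : BasedCategory.{v₂, u₂} C} {𝒴 : BasedCategory.{v₃, u₃} C}
  {𝒮 : BasedCategory.{v₄, u₄} C} (F : 𝒳 ⥤ᵇ 𝒮) (G : 𝒴 ⥤ᵇ 𝒮)

theorem fpFst_faithful [G.toFunctor.Faithful] : (FibCat.fpFst F G).toFunctor.Faithful := by
  refine ⟨fun {z z'} m m' h => ?_⟩
  have h1 : m.hom.fst = m'.hom.fst := h
  apply fp_hom_ext F G h1
  apply G.toFunctor.map_injective
  have w : F.map m.hom.fst ≫ z'.obj.iso.hom = z.obj.iso.hom ≫ G.map m.hom.snd := m.hom.w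
  have w' : F.map m'.hom.fst ≫ z'.obj.iso.hom = z.obj.iso.hom ≫ G.map m'.hom.snd := m'.hom.w
  rw [h1] at w
  have : z.obj.iso.hom ≫ G.map m.hom.snd = z.obj.iso.hom ≫ G.map m'.hom.snd := w.symm.trans w'
  exact (cancel_epi z.obj.iso.hom).1 this

theorem fpFst_full [G.toFunctor.Full] : (FibCat.fpFst F G).toFunctor.Full := by
  refine ⟨fun {z z'} n => ?_⟩
  have n' : z.obj.fst ⟶ z'.obj.fst := n
  obtain ⟨m₂, hm₂⟩ : ∃ m₂ : z.obj.snd ⟶ z'.obj.snd,
      G.map m₂ = z.obj.iso.inv ≫ F.map n ≫ z'.obj.iso.hom :=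
    G.toFunctor.map_surjective _
  refine ⟨fpHomMk F G n m₂ ?_, rfl⟩
  rw [hm₂, Iso.hom_inv_id_assoc]
  rfl

end fpFstFF

/-- A scheme `U` over a field `k` such that a projection `U ×_k U ⟶ U` is smooth is smooth over
`k`. -/
theorem smooth_of_isPullback_self_field {k : Type u} [Field k] {U R : Scheme.{u}}
    (υ : U ⟶ Spec (CommRingCat.of k)) (t s : R ⟶ U) (sq : IsPullback t s υ υ) [Smooth s] :
    Smooth υ := by
  by_cases hU : Nonempty ↥U
  · obtain ⟨u⟩ := hU
    obtain ⟨_, ⟨V, hV, rfl⟩, huV, -⟩ :=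
      U.isBasis_affineOpens.exists_subset_of_mem_open (Set.mem_univ u) isOpen_univ
    have hV' : IsAffineOpen (V : U.Opens) := hV
    have hVa : IsAffine ↑(V : U.Opens) := hV'
    obtain ⟨V, rfl⟩ : ∃ V' : U.Opens, V' = V := ⟨V, rfl⟩
    have sq1 : IsPullback (pullback.fst s V.ι) (pullback.snd s V.ι) s V.ι :=
      IsPullback.of_hasPullback _ _
    have big := (sq1.paste_horiz sq).flip
    have hcover : (@Surjective ⊓ @Flat ⊓ @QuasiCompact : MorphismProperty Scheme.{u})
        (V.ι ≫ υ) := by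
      refine ⟨⟨⟨fun y => ⟨⟨u, huV⟩, Subsingleton.elim _ _⟩⟩, inferInstance⟩, inferInstance⟩
    have hfst : Smooth (pullback.snd s V.ι) := inferInstance
    exact MorphismProperty.of_isPullback_of_descendsAlong (P := @Smooth)
      (Q := (@Surjective ⊓ @Flat ⊓ @QuasiCompact : MorphismProperty Scheme.{u})) big hcover hfst
  · have : IsEmpty ↥U := not_nonempty_iff.1 hU
    infer_instance

end Groth.Agent.H64.GerbM
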