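import Groth.Agent.H65.AlgStFppfCover
import Groth.Agent.H84.GerbeDesc
import Groth.Agent.H64.Pts.ChartTop
import Groth.Agent.H50.FactorDense
import Groth.Agent.H53.Epi

set_option autoImplicit false
open CategoryTheory CategoryTheory.Limits AlgebraicGeometry Opposite
universe u

/-! An fppf covering of categories fibred in groupoids is locally surjective on objects. -/

namespace Groth.Agent.H64.GerbL

open AlgSt Groth.Agent.H32 Groth.Agent.H64 Groth.Agent.H64.PTh Groth.Agent.H64.FpRep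
  Groth.Agent.H64.Recog Groth.Agent.H64.Pts

variable {S : Scheme.{u}}

/-- the image under a chart of the canonical morphism to the terminal object lies over the
structure morphism -/
theorem isHomLift_map_ovTo {𝒴 : AlgSt.Cat S} {T : Over S} (ŷ : FibCat.overCat T ⥤ᵇ 𝒴)
    (Z : Over T) {V : Over S} (hV : Z.left = V) (f : V ⟶ T)
    (hf : eqToHom hV.symm ≫ Z.hom = f) : 𝒴.p.IsHomLift f (ŷ.map (ovTo Z)) := by
  subst hV
  simp only [eqToHom_refl, Category.id_comp] at hf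
  subst hf
  have h1 : (FibCat.overCat T).p.IsHomLift Z.hom (ovTo Z) := by
    apply IsHomLift.of_fac' _ _ _ rfl rfl
    simp only [eqToHom_refl, Category.id_comp]
    rfl
  exact (BasedFunctor.isHomLift_iff ŷ _ _).mpr h1

/-- a morphism representable by algebraic spaces, flat, locally of finite presentation and
surjective is locally surjective on objects for the fppf topology -/
theorem locSurjObj_of_fppf {𝒵 𝒴 : AlgSt.Cat S} (h𝒴 : FibCat.IsFibGrpd 𝒴.p) (c : 𝒵 ⥤ᵇ 𝒴)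
    (hc₁ : RepByAlgSpWith (AlgSp.LocP @Flat) c)
    (hc₂ : RepByAlgSpWith (AlgSp.LocP @LocallyOfFinitePresentation) c)
    (hc₃ : RepByAlgSpWith AlgSp.IsSurjectiveMor c) :
    Gerb.LocSurjObj (QuotSh.J Scheme.fppfPrecoverage S) c := by
  intro y
  obtain ⟨ŷ, i, hi⟩ := exists_yoneda h𝒴 y (rfl : 𝒴.p.obj y = 𝒴.p.obj y)
  obtain ⟨F, e, he, hflat⟩ := hc₁ (𝒴.p.obj y) ŷ
  have : (AlgSp.IsSurjectiveMor (S := S)).RespectsIso := isSurjectiveMor_respectsIso
  have : (AlgSp.LocP (S := S) @LocallyOfFinitePresentation).RespectsIso := locP_respectsIso _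
  have hlfp := prop_of_any_presentation c hc₂ (𝒴.p.obj y) ŷ e he
  have hsurj := prop_of_any_presentation c hc₃ (𝒴.p.obj y) ŷ e he
  have hepi : Epi (spMapOfOver (BasedFunctor.comp e (FibCat.fpFst ŷ c))) :=
    Groth.Agent.H50.epi_of_locP_fppf_space F.property (AlgSp.IsAlgSpace.yon_obj _) _ hsurj hflat
      hlfp
  obtain ⟨R, hR, hl⟩ := Groth.Agent.H53.exists_local_lift
    (spMapOfOver (BasedFunctor.comp e (FibCat.fpFst ŷ c))) (𝟙 _)
  refine ⟨R, hR, fun V f hf => ?_⟩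
  obtain ⟨l, hl⟩ := hl f hf
  let s : F.obj.obj.obj (op V) := (AlgSp.J S).uliftYonedaEquiv l
  let a : (ofSp F.obj).obj := ⟨V, s⟩
  let ζ := e.obj a
  have hsec : secHom (BasedFunctor.comp e (FibCat.fpFst ŷ c)) a = f := by
    have h1 := congrArg (AlgSp.J S).uliftYonedaEquiv hl
    rw [(AlgSp.J S).uliftYonedaEquiv_comp] at h1
    have h2 : (spMapOfOver (BasedFunctor.comp e (FibCat.fpFst ŷ c))).hom.app (op V) s =
        ⟨secHom (BasedFunctor.comp e (FibCat.fpFst ŷ c)) a⟩ := rfl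
    rw [Category.comp_id] at h1
    have h3 : (AlgSp.J S).uliftYonedaEquiv ((AlgSp.yon S).map f) = ⟨f⟩ := by
      apply ULift.ext
      exact Category.id_comp f
    exact congrArg ULift.down (h2.symm.trans (h1.trans h3))
  have hZ : (ζ.obj.fst : Over (𝒴.p.obj y)).left = V :=
    (BasedFunctor.comp e (FibCat.fpFst ŷ c)).w_obj a
  have hlift : 𝒴.p.IsHomLift f (ŷ.map (ovTo ζ.obj.fst)) :=
    isHomLift_map_ovTo ŷ ζ.obj.fst hZ f hsec
  have hiso : 𝒴.p.IsHomLift (𝟙 V) ζ.obj.iso.inv := by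
    have h0 := ζ.property
    have h1 : 𝒴.p.IsHomLift (𝟙 ((FibCat.overCat (𝒴.p.obj y)).p.obj ζ.obj.fst)) ζ.obj.iso.hom := h0
    rw [show (FibCat.overCat (𝒴.p.obj y)).p.obj ζ.obj.fst = V from hZ] at h1
    exact IsHomLift.lift_id_inv 𝒴.p V ζ.obj.iso
  have h4 : 𝒴.p.IsHomLift f (ζ.obj.iso.inv ≫ ŷ.map (ovTo ζ.obj.fst) ≫ i.hom) :=
    lift_comp_id_left 𝒴.p hiso (lift_comp_id_right 𝒴.p hlift hi)
  exact ⟨ζ.obj.snd, ζ.obj.iso.inv ≫ ŷ.map (ovTo ζ.obj.fst) ≫ i.hom, h4⟩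

/-- a surjective, flat, locally finitely presented morphism of categories fibred in groupoids is
locally surjective on objects -/
theorem locSurjObj_of_fppf_stack {𝒵 𝒴 : AlgSt.Cat S} (h𝒵 : FibCat.IsFibGrpd 𝒵.p)
    (h𝒴 : FibCat.IsFibGrpd 𝒴.p) (g : 𝒵 ⥤ᵇ 𝒴) (hg₁ : AlgSt.IsSurjective g)
    (hg₂ : LocQ (AlgSp.LocP @Flat) g)
    (hg₃ : LocQ (AlgSp.LocP @LocallyOfFinitePresentation) g) :
    Gerb.LocSurjObj (QuotSh.J Scheme.fppfPrecoverage S) g := by
  obtain ⟨A, a, -, -, h1, h2, h3⟩ :=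
    Groth.Agent.H65.AlgStFppfCover.exists_fppf_scheme_cover h𝒵 h𝒴 g hg₂ hg₃ hg₁
  intro y
  obtain ⟨R, hR, hRy⟩ := locSurjObj_of_fppf h𝒴 (BasedFunctor.comp a g) h1 h2 h3 y
  refine ⟨R, hR, fun V f hf => ?_⟩
  obtain ⟨x, φ, hφ⟩ := hRy f hf
  exact ⟨a.obj x, φ, hφ⟩

end Groth.Agent.H64.GerbL
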