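import Groth.Agent.H64.Gerb.FpFstFF
import Groth.Agent.H64.Gerb.LocSurj
import Groth.Agent.H64.Stk.FpFunct
import Groth.Agent.H64.OverMapRep
import Groth.Agent.H64.Psh.PCompare
import Groth.Agent.H64.Psh.QCompact
import Groth.Agent.H64.Stk.LocEss
import Groth.Agent.H64.Pts.Surj
import Groth.Agent.H64.Pts.Scheme
import Groth.Agent.H65.AlgStLqfSelf
import Groth.Agent.H65.AlgStQC5

set_option autoImplicit false
universe u
open CategoryTheory CategoryTheory.Limits AlgebraicGeometry Opposite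

/-! A non-empty algebraic stack lying fully faithfully over the spectrum of a field is that
spectrum. -/

namespace Groth.Agent.H64.GerbM

open AlgSt Groth.Agent.H32 Groth.Agent.H64 Groth.Agent.H64.PTh Groth.Agent.H64.FpRep
  Groth.Agent.H64.Recog Groth.Agent.H64.Pts

variable {S : Scheme.{u}}

/-- the chart of an algebraic stack fully faithful over a field spectrum is smooth over it -/
theorem smooth_of_chart_of_fullyFaithful {𝒲 : AlgSt.Cat S}
    {k : Type u} [Field k] (a : Spec (CommRingCat.of k) ⟶ S)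
    (c : 𝒲 ⥤ᵇ FibCat.overCat (Over.mk a)) [c.toFunctor.Full] [c.toFunctor.Faithful]
    (U : Over S) (u : FibCat.overCat U ⥤ᵇ 𝒲) (hu : RepByAlgSpWith (AlgSp.LocP @Smooth) u)
    (h : U ⟶ Over.mk a) (γ : BasedFunctor.comp u c ≅ ovMap h) : Smooth h.left := by
  obtain ⟨F, e, he, hsm⟩ := hu U u
  have γ' : BasedFunctor.comp u c ≅ BasedFunctor.comp (BasedFunctor.id _) (ovMap h) := γ
  let M := fpMap (ovMap h) (ovMap h) u u (BasedFunctor.id _) (BasedFunctor.id _) c γ' γ'
  have hM : FibCat.IsEquivOver M :=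
    isEquivOver_fpMap (ovMap h) (ovMap h) u u (BasedFunctor.id _) (BasedFunctor.id _) c γ' γ'
      (isEquivOver_id _) (isEquivOver_id _)
  have hΛ : FibCat.IsEquivOver (ovPbLift h h) := isEquivOver_ovPbLift h h
  let e₁ : ofSp ((AlgSp.yon S).obj (pullback h h)) ⥤ᵇ FibCat.fp (ovMap h) (ovMap h) :=
    BasedFunctor.comp (toOverCat (pullback h h)) (ovPbLift h h)
  have he₁ : FibCat.IsEquivOver e₁ := isEquivOver_comp (isEquivOver_toOverCat _) hΛ
  let e₂ : ofSp F.obj ⥤ᵇ FibCat.fp (ovMap h) (ovMap h) := BasedFunctor.comp e M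
  have he₂ : FibCat.IsEquivOver e₂ := isEquivOver_comp he hM
  obtain ⟨ψ, hψ, heq⟩ := exists_iso_spMapOfOver (FibCat.fpFst (ovMap h) (ovMap h)) e₁ he₁ e₂
  have hψi : IsIso ψ := hψ he₂
  have h1 : spMapOfOver (BasedFunctor.comp e₁ (FibCat.fpFst (ovMap h) (ovMap h))) =
      (AlgSp.yon S).map (pullback.fst h h) :=
    Groth.Agent.H65.AlgStLqfSelf.spMapOfOver_toOverCat_overMap (pullback.fst h h)
  have h2 : spMapOfOver (BasedFunctor.comp e₂ (FibCat.fpFst (ovMap h) (ovMap h))) =
      spMapOfOver (BasedFunctor.comp e (FibCat.fpFst u u)) := rfl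
  rw [h1, h2] at heq
  have hsm' : AlgSp.LocP @Smooth (ψ ≫ (AlgSp.yon S).map (pullback.fst h h)) := by
    rw [← heq]; exact hsm
  have := locP_respectsIso (S := S) @Smooth
  have hsm'' : AlgSp.LocP @Smooth ((AlgSp.yon S).map (pullback.fst h h)) :=
    (MorphismProperty.cancel_left_of_respectsIso (AlgSp.LocP @Smooth) ψ _).1 hsm'
  have hfst : Smooth (pullback.fst h h).left := AlgSp.locP_yon_map hsm''
  have sq : IsPullback (pullback.snd h h).left (pullback.fst h h).left h.left h.left :=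
    ((IsPullback.of_hasPullback h h).map (Over.forget S)).flip
  exact smooth_of_isPullback_self_field h.left _ _ sq

/-- a non-empty algebraic stack fully faithful over the spectrum of a field is equivalent to it -/
theorem isEquivOver_of_fullyFaithful_to_field {𝒲 : AlgSt.Cat S}
    (h𝒲 : IsAlgStack Scheme.fppfPrecoverage 𝒲)
    {k : Type u} [Field k] (a : Spec (CommRingCat.of k) ⟶ S)
    (c : 𝒲 ⥤ᵇ FibCat.overCat (Over.mk a)) [c.toFunctor.Full] [c.toFunctor.Faithful]
    (hne : Nonempty (AlgSt.Points 𝒲)) : FibCat.IsEquivOver c := by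
  have hfib : FibCat.IsFibGrpd 𝒲.p := h𝒲.isStack.1
  have hK : FibCat.IsFibGrpd (FibCat.overCat (Over.mk a)).p := (isFibSetoid_overCat (Over.mk a)).1
  obtain ⟨U, u, hu1, hu2⟩ := h𝒲.atlas
  have hU : FibCat.IsFibGrpd (FibCat.overCat U).p := (isFibSetoid_overCat U).1
  obtain ⟨h, ⟨γ⟩⟩ := exists_iso_ovMap (BasedFunctor.comp u c)
  have hsm : Smooth h.left := smooth_of_chart_of_fullyFaithful a c U u hu1 h γ
  -- the chart is non-empty
  obtain ⟨pt⟩ := hne
  have husurj : IsSurjective u :=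
    (isSurjective_iff_repByAlgSpWith hU hfib u (RepByAlgSpWith.repByAlgSp1 hu2)).2 hu2
  obtain ⟨q, -⟩ := husurj pt
  obtain ⟨t, -⟩ := (ptU_bijective U).2 q
  have hsurj : Surjective h.left := by
    refine ⟨fun y => ⟨t, ?_⟩⟩
    have key : ∀ (y₁ y₂ : ↥(Spec (CommRingCat.of k))), y₁ = y₂ := fun _ _ => Subsingleton.elim _ _
    exact key _ _
  -- the composite chart is an fppf covering
  have hflat : Flat h.left := inferInstance
  have hlfp : LocallyOfFinitePresentation h.left := inferInstance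
  have h1 : RepByAlgSpWith (AlgSp.LocP @Flat) (AlgSt.overMap h) :=
    repByAlgSpWith_overMap _ (stableBC_locP Groth.Agent.H50.goodClass_flat) h
      (Groth.Agent.H50.goodClass_flat.locP_yon_map h hflat)
  have h2 : RepByAlgSpWith (AlgSp.LocP @LocallyOfFinitePresentation) (AlgSt.overMap h) :=
    repByAlgSpWith_overMap _ (stableBC_locP Groth.Agent.H50.goodClass_lfp) h
      (Groth.Agent.H50.goodClass_lfp.locP_yon_map h hlfp)
  have h3 : RepByAlgSpWith AlgSp.IsSurjectiveMor (AlgSt.overMap h) :=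
    repByAlgSpWith_overMap _ stableBC_surj h (isSurjectiveMor_yon_map h)
  have hloc : Gerb.LocSurjObj (QuotSh.J Scheme.fppfPrecoverage S) (AlgSt.overMap h) :=
    Groth.Agent.H64.GerbL.locSurjObj_of_fppf hK (AlgSt.overMap h) h1 h2 h3
  rw [isEquivOver_iff_locally_essSurj c (QuotSh.J Scheme.fppfPrecoverage S) h𝒲.isStack
    (Groth.Agent.H65.AlgStQC5.isAlgStack_overCat (Over.mk a)).isStack]
  intro y
  obtain ⟨R, hR, hRy⟩ := hloc y
  refine ⟨R, hR, fun V f hf => ?_⟩
  obtain ⟨x, φ, hφ⟩ := hRy f hf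
  have hx : (FibCat.overCat (Over.mk a)).p.obj ((ovMap h).obj x) = (FibCat.overCat U).p.obj x :=
    rfl
  have hγ : (FibCat.overCat (Over.mk a)).p.IsHomLift (𝟙 ((FibCat.overCat U).p.obj x))
      (bapp γ.hom x) := bapp_isHomLift γ.hom x
  let φ' : (ovMap h).obj x ⟶ y := φ
  have hφ' : (FibCat.overCat (Over.mk a)).p.IsHomLift f φ' := hφ
  have hV : (FibCat.overCat (Over.mk a)).p.obj ((ovMap h).obj x) = V :=
    lift_domain_eq (FibCat.overCat (Over.mk a)).p hφ'
  have hV' : (FibCat.overCat U).p.obj x = V := hV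
  exact ⟨u.obj x, bapp γ.hom x ≫ φ',
    lift_comp_id_left (FibCat.overCat (Over.mk a)).p
      (lift_id_congr (FibCat.overCat (Over.mk a)).p hγ hV') hφ'⟩

end Groth.Agent.H64.GerbM
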