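import Groth.Agent.H64.Pts.ClosedRed
import Groth.Agent.H64.MonoFF
import Groth.Agent.H64.Stk.LocEss
import Groth.Agent.H64.FPtFp
import Groth.Agent.H64.Pts.Surj
import Groth.Agent.H64.Pts.Compare
import Groth.Agent.H49.AlgSpMonoField

set_option autoImplicit false
universe u
open CategoryTheory CategoryTheory.Limits AlgebraicGeometry Opposite

/-! A monomorphism into an algebraic stack covered (fppf) by the spectrum of a field has empty
source or is an equivalence. -/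

namespace Groth.Agent.H64.GerbM

open AlgSt Groth.Agent.H32 Groth.Agent.H64 Groth.Agent.H64.Recog Groth.Agent.H64.FpRep
  Groth.Agent.H64.PTh Groth.Agent.H64.Pts

variable {S : Scheme.{u}} {𝒳 𝒴 : AlgSt.Cat S}

/-- an object over which the base change of `f` has a section lies in the essential image of `f`,
fibrewise -/
theorem exists_preimage_of_section (f : 𝒳 ⥤ᵇ 𝒴)
    {y : 𝒴.obj} {Y : Over S} (ŷ : FibCat.overCat Y ⥤ᵇ 𝒴) (i : ŷ.obj (ovT Y) ≅ y)
    (hi : 𝒴.p.IsHomLift (𝟙 Y) i.hom)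
    {F : AlgSp.Sp S} (e : ofSp F ⥤ᵇ FibCat.fp ŷ f)
    (a : (AlgSp.yon S).obj Y ⟶ F)
    (haw : a ≫ spMapOfOver (BasedFunctor.comp e (FibCat.fpFst ŷ f)) = 𝟙 _) :
    ∃ (ξ : 𝒳.obj) (ε : f.obj ξ ≅ y), 𝒴.p.IsHomLift (𝟙 Y) ε.hom := by
  obtain ⟨β⟩ := nonempty_iso_ofSpMap_spMapOfOver
    (BasedFunctor.comp e (FibCat.fpFst ŷ f))
  have α : BasedFunctor.comp (ofSpMap (spMapOfOver
      (BasedFunctor.comp e (FibCat.fpFst ŷ f)))) (toOverCat Y) ≅
      BasedFunctor.comp e (FibCat.fpFst ŷ f) := bwrIso β (toOverCat Y)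
  let G : FibCat.overCat Y ⥤ᵇ FibCat.fp ŷ f :=
    BasedFunctor.comp (BasedFunctor.comp (ofOverCat Y) (ofSpMap a)) e
  have hG : BasedFunctor.comp (BasedFunctor.comp (ofOverCat Y) (ofSpMap a))
      (BasedFunctor.comp (ofSpMap (spMapOfOver
        (BasedFunctor.comp e (FibCat.fpFst ŷ f)))) (toOverCat Y)) =
      BasedFunctor.id _ := by
    have h1 : BasedFunctor.comp (BasedFunctor.comp (ofOverCat Y) (ofSpMap a))
        (BasedFunctor.comp (ofSpMap (spMapOfOver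
          (BasedFunctor.comp e (FibCat.fpFst ŷ f)))) (toOverCat Y)) =
        BasedFunctor.comp (ofOverCat Y) (BasedFunctor.comp (ofSpMap (a ≫ spMapOfOver
          (BasedFunctor.comp e (FibCat.fpFst ŷ f)))) (toOverCat Y)) := rfl
    rw [h1, haw]
    rfl
  have γ : BasedFunctor.comp G (FibCat.fpFst ŷ f) ≅ BasedFunctor.id _ :=
    (bwlIso (BasedFunctor.comp (ofOverCat Y) (ofSpMap a)) α.symm) ≪≫ eqToIso hG
  let ζ := G.obj (ovT Y)
  have hζ : (FibCat.fp ŷ f).p.obj ζ = Y := G.w_obj (ovT Y)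
  let e1 : ζ.obj.fst ≅ ovT Y := bappIso γ (ovT Y)
  have he1 : (FibCat.overCat Y).p.IsHomLift (𝟙 Y) e1.hom :=
    bapp_isHomLift' γ.hom (ovT Y) (rfl : (FibCat.overCat Y).p.obj (ovT Y) = Y)
  let e2 : ŷ.obj ζ.obj.fst ≅ ŷ.obj (ovT Y) := ŷ.toFunctor.mapIso e1
  have he2 : 𝒴.p.IsHomLift (𝟙 Y) e2.hom :=
    (BasedFunctor.isHomLift_iff ŷ _ _).mpr he1
  let e3 : ŷ.obj ζ.obj.fst ≅ f.obj ζ.obj.snd := ζ.obj.iso
  have he3 : 𝒴.p.IsHomLift (𝟙 Y) e3.hom := by
    have h := ζ.property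
    have h' : 𝒴.p.IsHomLift (𝟙 ((FibCat.overCat Y).p.obj ζ.obj.fst)) ζ.obj.iso.hom := h
    have hζ' : (FibCat.overCat Y).p.obj ζ.obj.fst = Y := hζ
    rw [hζ'] at h'
    exact h'
  have he3inv : 𝒴.p.IsHomLift (𝟙 Y) e3.inv := lift_inv_of_iso 𝒴.p e3 he3
  refine ⟨ζ.obj.snd, e3.symm ≪≫ e2 ≪≫ i, ?_⟩
  exact lift_id_comp_id 𝒴.p he3inv (lift_id_comp_id 𝒴.p he2 hi)

/-- a fully faithful functor representable by isomorphisms is an equivalence -/
theorem isEquivOver_of_repByAlgSpWith_iso (h𝒴 : FibCat.IsFibGrpd 𝒴.p) (f : 𝒳 ⥤ᵇ 𝒴)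
    [f.toFunctor.Full] [f.toFunctor.Faithful]
    (hf : RepByAlgSpWith (MorphismProperty.isomorphisms (AlgSp.Sp S)) f) :
    FibCat.IsEquivOver f := by
  apply isEquivOver_of_fullyFaithful_of_fiberwise_essSurj f
  intro y
  obtain ⟨ŷ, i, hi⟩ := exists_yoneda h𝒴 y (rfl : 𝒴.p.obj y = 𝒴.p.obj y)
  obtain ⟨F, e, he, hw⟩ := hf (𝒴.p.obj y) ŷ
  have hw' : IsIso (spMapOfOver (BasedFunctor.comp e (FibCat.fpFst ŷ f))) := hw
  exact exists_preimage_of_section f ŷ i hi e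
    (inv (spMapOfOver (BasedFunctor.comp e (FibCat.fpFst ŷ f)))) (IsIso.inv_hom_id _)

/-- a monomorphism of algebraic stacks into one covered (fppf) by the spectrum of a field has
empty source or is an equivalence -/
theorem isEmpty_points_or_isEquivOver_of_isMono_of_fieldPt
    {𝒵' 𝒵 : AlgSt.Cat S} (h𝒵' : AlgSt.IsAlgStack Scheme.fppfPrecoverage 𝒵')
    (h𝒵 : AlgSt.IsAlgStack Scheme.fppfPrecoverage 𝒵) (f : 𝒵' ⥤ᵇ 𝒵) (hf : AlgSt.IsMono f)
    (k : Type u) [Field k] (a : Spec (CommRingCat.of k) ⟶ S)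
    (z : FibCat.overCat (Over.mk a) ⥤ᵇ 𝒵)
    (hzp : AlgSt.RepByAlgSpWith (AlgSp.LocP @LocallyOfFinitePresentation) z)
    (hzs : AlgSt.RepByAlgSpWith AlgSp.IsSurjectiveMor z)
    (hzf : AlgSt.RepByAlgSpWith (AlgSp.LocP @Flat) z) :
    IsEmpty (AlgSt.Points 𝒵') ∨ FibCat.IsEquivOver f := by
  have hfib' : FibCat.IsFibGrpd 𝒵'.p := h𝒵'.isStack.1
  have hfib : FibCat.IsFibGrpd 𝒵.p := h𝒵.isStack.1
  have hK : FibCat.IsFibGrpd (FibCat.overCat (Over.mk a)).p := (isFibSetoid_overCat (Over.mk a)).1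
  obtain ⟨F, e, he, hmono⟩ := hf (Over.mk a) z
  have hmono' : Mono (spMapOfOver (BasedFunctor.comp e (FibCat.fpFst z f))) := hmono
  by_cases hne : Nonempty (AlgSp.Points F.obj)
  · right
    obtain ⟨w⟩ := hne
    have hiso : IsIso (spMapOfOver (BasedFunctor.comp e (FibCat.fpFst z f))) :=
      Groth.Agent.H49.isIso_of_mono_to_field F.property a _ w
    have h' : RepByAlgSpWith (MorphismProperty.isomorphisms (AlgSp.Sp S))
        (FibCat.fpFst z f) := by
      obtain ⟨β⟩ := nonempty_iso_ofSpMap_spMapOfOver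
        (BasedFunctor.comp e (FibCat.fpFst z f))
      have α : BasedFunctor.comp (ofSpMap (spMapOfOver
          (BasedFunctor.comp e (FibCat.fpFst z f)))) (toOverCat (Over.mk a)) ≅
          BasedFunctor.comp e (FibCat.fpFst z f) := bwrIso β (toOverCat (Over.mk a))
      have h1 : FibCat.IsEquivOver (BasedFunctor.comp (ofSpMap (spMapOfOver
          (BasedFunctor.comp e (FibCat.fpFst z f)))) (toOverCat (Over.mk a))) :=
        isEquivOver_comp (isEquivOver_ofSpMap_of_isIso _) (isEquivOver_toOverCat (Over.mk a))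
      have h2 : RepByAlgSpWith (MorphismProperty.isomorphisms (AlgSp.Sp S))
          (BasedFunctor.comp (ofSpMap (spMapOfOver
            (BasedFunctor.comp e (FibCat.fpFst z f)))) (toOverCat (Over.mk a))) :=
        Groth.Agent.H65.AlgStEquivP.repByAlgSpWith_of_isEquivOver _
          (fun V => (inferInstance : IsIso (𝟙 ((AlgSp.yon S).obj V)))) _ h1
      exact repByAlgSpWith_of_square' _ (FibCat.fpFst z f) _ e
        (BasedFunctor.id _) he (isEquivOver_id _) α h2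
    have hiso' : RepByAlgSpWith (MorphismProperty.isomorphisms (AlgSp.Sp S)) f :=
      repByAlgSpWith_of_fpFst_fppf hfib' hfib hK
        (stableBC_of_inst (MorphismProperty.isomorphisms (AlgSp.Sp S)))
        (isLocalOnBase_fppf_of_fpqc (Groth.Agent.S10532.result S))
        f (RepByAlgSpWith.repByAlgSp1 hf) z hzf hzp hzs h'
    obtain ⟨hfull, hfaith⟩ := full_faithful_of_isMono hfib' hfib f hf
    exact isEquivOver_of_repByAlgSpWith_iso hfib f hiso'
  · left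
    refine ⟨fun η => hne ?_⟩
    have hzsurj : IsSurjective z :=
      (isSurjective_iff_repByAlgSpWith hK hfib z (RepByAlgSpWith.repByAlgSp1 hzs)).2 hzs
    obtain ⟨p, hp⟩ := hzsurj (Points.map f η)
    obtain ⟨w₀, -, -⟩ := exists_points_fp_of_map_eq hfib' hfib hK f z p η hp
    obtain ⟨r, -⟩ := (map_bijective_of_isEquivOver he).2 w₀
    obtain ⟨r', -⟩ := σ_surjective r
    exact ⟨r'⟩

end Groth.Agent.H64.GerbM
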