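import Groth.Agent.H64.Gerb.FieldSub
import Groth.Agent.H64.Psh.FpAlg
import Groth.Agent.H64.FPtFp
import Groth.Prelude.Def_StGerb

set_option autoImplicit false
universe u
open CategoryTheory CategoryTheory.Limits AlgebraicGeometry Opposite

/-! A field-valued point of an algebraic stack whose class lies in a full algebraic substack
factors through that substack. -/

namespace Groth.Agent.H64.GerbM

open AlgSt Groth.Agent.H32 Groth.Agent.H64 Groth.Agent.H64.PTh Groth.Agent.H64.FpRep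
  Groth.Agent.H64.Recog Groth.Agent.H64.Pts

variable {S : Scheme.{u}} {𝒳 : AlgSt.Cat S}

/-- a field-valued point whose class comes from a full subcategory which is an algebraic stack
factors through this subcategory -/
theorem exists_factor_of_point_mem (h𝒳 : IsAlgStack Scheme.fppfPrecoverage 𝒳)
    (Q : 𝒳.obj → Prop) (halg : IsAlgStack Scheme.fppfPrecoverage (AlgSt.fullSub 𝒳 Q))
    {K : Type u} [Field K] (a : Spec (CommRingCat.of K) ⟶ S)
    (p : FibCat.overCat (Over.mk a) ⥤ᵇ 𝒳) (t : ↥(Over.mk a).left)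
    (ht : AlgSt.Points.ofChart p t ∈ Set.range (AlgSt.Points.map (AlgSt.subIncl 𝒳 Q))) :
    ∃ q : FibCat.overCat (Over.mk a) ⥤ᵇ AlgSt.fullSub 𝒳 Q,
      Nonempty (BasedFunctor.comp q (AlgSt.subIncl 𝒳 Q) ≅ p) := by
  have hfib : FibCat.IsFibGrpd 𝒳.p := h𝒳.isStack.1
  have hfibZ : FibCat.IsFibGrpd (AlgSt.fullSub 𝒳 Q).p := halg.isStack.1
  have hK : FibCat.IsFibGrpd (FibCat.overCat (Over.mk a)).p := (isFibSetoid_overCat (Over.mk a)).1
  have hfull : (AlgSt.subIncl 𝒳 Q).toFunctor.Full :=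
    (inferInstance : (ObjectProperty.ι Q).Full)
  have hfaith : (AlgSt.subIncl 𝒳 Q).toFunctor.Faithful :=
    (inferInstance : (ObjectProperty.ι Q).Faithful)
  have h𝒲 : IsAlgStack Scheme.fppfPrecoverage (FibCat.fp p (AlgSt.subIncl 𝒳 Q)) :=
    isAlgStack_fp hfib h𝒳.diag (Groth.Agent.H65.AlgStQC5.isAlgStack_overCat (Over.mk a)) halg p
      (AlgSt.subIncl 𝒳 Q)
  have := fpFst_full p (AlgSt.subIncl 𝒳 Q)
  have := fpFst_faithful p (AlgSt.subIncl 𝒳 Q)
  obtain ⟨z0, hz0⟩ := ht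
  have hz0' : Points.map p (ptU (Over.mk a) t) = Points.map (AlgSt.subIncl 𝒳 Q) z0 := by
    rw [hz0]; rfl
  obtain ⟨w₀, -, -⟩ := exists_points_fp_of_map_eq hfibZ hfib hK (AlgSt.subIncl 𝒳 Q) p
    (ptU (Over.mk a) t) z0 hz0'
  have hc : FibCat.IsEquivOver (FibCat.fpFst p (AlgSt.subIncl 𝒳 Q)) :=
    isEquivOver_of_fullyFaithful_to_field h𝒲 a _ ⟨w₀⟩
  obtain ⟨d⟩ := IsEquivOver.nonempty_data hc
  refine ⟨BasedFunctor.comp d.inv (FibCat.fpSnd p (AlgSt.subIncl 𝒳 Q)), ⟨?_⟩⟩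
  have e1 : BasedFunctor.comp d.inv (BasedFunctor.comp (FibCat.fpSnd p (AlgSt.subIncl 𝒳 Q))
      (AlgSt.subIncl 𝒳 Q)) ≅
      BasedFunctor.comp d.inv (BasedFunctor.comp (FibCat.fpFst p (AlgSt.subIncl 𝒳 Q)) p) :=
    bwlIso d.inv (FibCat.fpIso p (AlgSt.subIncl 𝒳 Q)).symm
  have e2 : BasedFunctor.comp (BasedFunctor.comp d.inv (FibCat.fpFst p (AlgSt.subIncl 𝒳 Q))) p ≅
      BasedFunctor.comp (BasedFunctor.id _) p := bwrIso d.counit p
  exact e1 ≪≫ e2

end Groth.Agent.H64.GerbM
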