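import Groth.Agent.H64.Gerb.ResGerbeFactor
import Groth.Agent.H64.Gerb.LocSurj
import Groth.Agent.H64.FldPt.Tfae
import Groth.Agent.H64.Stk.LocEssAt
import Groth.Agent.H64.Stk.SubStack

set_option autoImplicit false
universe u
open CategoryTheory CategoryTheory.Limits AlgebraicGeometry Opposite

/-! A morphism of algebraic stacks maps the residual gerbe of a point into the residual gerbe of
its image. -/

namespace Groth.Agent.H64.GerbM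

open AlgSt Groth.Agent.H32 Groth.Agent.H64 Groth.Agent.H64.PTh Groth.Agent.H64.FpRep
  Groth.Agent.H64.Recog Groth.Agent.H64.Pts Groth.Agent.H64.FldPt Groth.Agent.H64.GerbL

variable {S : Scheme.{u}} {𝒳 𝒴 : AlgSt.Cat S}

theorem prop_map_of_isResGerbe (h𝒳 : IsAlgStack Scheme.fppfPrecoverage 𝒳)
    (h𝒴 : IsAlgStack Scheme.fppfPrecoverage 𝒴) (F : 𝒳 ⥤ᵇ 𝒴) (x : AlgSt.Points 𝒳)
    (Q : 𝒳.obj → Prop) (hQ : Gerb.IsResGerbe Scheme.fppfPrecoverage 𝒳 x Q)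
    (Q' : 𝒴.obj → Prop)
    (hQ' : Gerb.IsResGerbe Scheme.fppfPrecoverage 𝒴 (AlgSt.Points.map F x) Q')
    (ξ : 𝒳.obj) (hξ : Q ξ) : Q' (F.obj ξ) := by
  obtain ⟨hQiso, h𝒵, hred, hnoeth, hne, hsub, hpt⟩ := hQ
  obtain ⟨hQ'iso, h𝒵', -, -, hne', -, hpt'⟩ := hQ'
  obtain ⟨k, _, a, z, hzs, hzf⟩ := exists_flat_surj_field_of_reduced h𝒵 hred hne hsub
  obtain ⟨k', _, a', z', -, h2, h3, h4⟩ := exists_lft_flat_surj_field h𝒵 a z hzs hzf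
  have hzp := h4 hnoeth
  let p : FibCat.overCat (Over.mk a') ⥤ᵇ 𝒴 :=
    BasedFunctor.comp z' (BasedFunctor.comp (AlgSt.subIncl 𝒳 Q) F)
  have hk' : Nonempty ↥(Spec (CommRingCat.of k')) := inferInstance
  obtain ⟨t⟩ := hk'
  have ht : AlgSt.Points.ofChart p t ∈ Set.range (AlgSt.Points.map (AlgSt.subIncl 𝒴 Q')) := by
    obtain ⟨w⟩ := hne'
    refine ⟨w, ?_⟩
    rw [hpt' w]
    change _ = Points.map (BasedFunctor.comp (AlgSt.subIncl 𝒳 Q) F) (Points.ofChart z' t)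
    rw [map_comp, hpt]
  obtain ⟨q, ⟨β⟩⟩ := exists_factor_of_point_mem h𝒴 Q' h𝒵' a' p t ht
  have hp : ∀ c, Q' (p.obj c) := fun c => hQ'iso.of_iso (bappIso β c) (q.obj c).property
  obtain ⟨R, hR, hRy⟩ := locSurjObj_of_fppf h𝒵.isStack.1 z' h3 hzp h2 ⟨ξ, hξ⟩
  have hfull : (AlgSt.subIncl 𝒴 Q').toFunctor.Full :=
    (inferInstance : (ObjectProperty.ι Q').Full)
  have hfaith : (AlgSt.subIncl 𝒴 Q').toFunctor.Faithful :=
    (inferInstance : (ObjectProperty.ι Q').Faithful)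
  obtain ⟨η, ⟨e⟩⟩ := exists_iso_of_locally_essSurj_at' (AlgSt.subIncl 𝒴 Q')
    (QuotSh.J Scheme.fppfPrecoverage S) h𝒴.isStack.1
    (fun U R hR => (h𝒵'.isStack.2 R hR).essSurj) (fun U R hR => (h𝒴.isStack.2 R hR).full)
    (F.obj ξ) (F.w_obj ξ) ⟨R, hR, fun V f hf => by
      obtain ⟨c, m, hm⟩ := hRy f hf
      have hm' : 𝒳.p.IsHomLift f m.hom := (sub_isHomLift_iff (Q := Q) f m).mp hm
      exact ⟨⟨p.obj c, hp c⟩, F.map m.hom, (BasedFunctor.isHomLift_iff F _ _).mpr hm'⟩⟩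
  exact hQ'iso.of_iso e η.property

/-- the morphism induced on residual gerbes -/
theorem exists_map_resGerbe (h𝒳 : IsAlgStack Scheme.fppfPrecoverage 𝒳)
    (h𝒴 : IsAlgStack Scheme.fppfPrecoverage 𝒴) (F : 𝒳 ⥤ᵇ 𝒴) (x : AlgSt.Points 𝒳)
    (Q : 𝒳.obj → Prop) (hQ : Gerb.IsResGerbe Scheme.fppfPrecoverage 𝒳 x Q)
    (Q' : 𝒴.obj → Prop)
    (hQ' : Gerb.IsResGerbe Scheme.fppfPrecoverage 𝒴 (AlgSt.Points.map F x) Q') :
    ∃ g : AlgSt.fullSub 𝒳 Q ⥤ᵇ AlgSt.fullSub 𝒴 Q',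
      BasedFunctor.comp g (AlgSt.subIncl 𝒴 Q') = BasedFunctor.comp (AlgSt.subIncl 𝒳 Q) F :=
  ⟨subLiftFunctor (Q := Q') (BasedFunctor.comp (AlgSt.subIncl 𝒳 Q) F)
    (fun a => prop_map_of_isResGerbe h𝒳 h𝒴 F x Q hQ Q' hQ' a.obj a.property), rfl⟩

end Groth.Agent.H64.GerbM
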