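import Groth.Agent.H64.Pts.ImmSub
import Groth.Agent.H64.AlgStEquiv
import Groth.Agent.H64.Pts.Basic
import Groth.Prelude.Def_StGerb

set_option autoImplicit false
universe u
open CategoryTheory CategoryTheory.Limits AlgebraicGeometry Opposite

/-! The essential image of a monomorphism from a reduced, locally Noetherian one-point algebraic
stack is the residual gerbe. -/

namespace Groth.Agent.H64.GerbM

open AlgSt Groth.Agent.H32 Groth.Agent.H64 Groth.Agent.H64.Pts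

variable {S : Scheme.{u}} {𝒳 𝒴 : AlgSt.Cat S}

/-- smooth-local properties transfer along equivalences -/
theorem smoothLocally_of_isEquivOver (P : Scheme.{u} → Prop) (e : 𝒳 ⥤ᵇ 𝒴)
    (he : FibCat.IsEquivOver e) (h : AlgSt.SmoothLocally P 𝒳) : AlgSt.SmoothLocally P 𝒴 := by
  intro U x hx
  obtain ⟨inv, ⟨η⟩, ⟨ε⟩⟩ := he
  have hinv : FibCat.IsEquivOver inv := ⟨e, ⟨ε⟩, ⟨η⟩⟩
  exact h U (BasedFunctor.comp x inv) (repByAlgSpWith_comp_equiv _ x inv hinv hx)

/-- the essential image of a monomorphism from a reduced locally Noetherian one-point algebraic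
stack is the residual gerbe at the image point -/
theorem isResGerbe_essIm {𝒵 : AlgSt.Cat S} (h𝒳 : AlgSt.IsAlgStack Scheme.fppfPrecoverage 𝒳)
    (x : AlgSt.Points 𝒳) (h𝒵 : AlgSt.IsAlgStack Scheme.fppfPrecoverage 𝒵)
    (hred : AlgSt.SmoothLocally (fun T => IsReduced T) 𝒵)
    (hnoeth : AlgSt.SmoothLocally (fun T => IsLocallyNoetherian T) 𝒵)
    (hne : Nonempty (AlgSt.Points 𝒵)) (hsub : Subsingleton (AlgSt.Points 𝒵))
    (f : 𝒵 ⥤ᵇ 𝒳) (hf : AlgSt.IsMono f) (hfx : ∀ p : AlgSt.Points 𝒵, AlgSt.Points.map f p = x) :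
    Gerb.IsResGerbe Scheme.fppfPrecoverage 𝒳 x (essIm f) ∧
      FibCat.IsEquivOver (toEssIm f) := by
  obtain ⟨hfull, hfaith⟩ := full_faithful_of_isMono h𝒵.isStack.1 h𝒳.isStack.1 f hf
  have he : FibCat.IsEquivOver (toEssIm f) := isEquivOver_toEssIm h𝒵.isStack.1 h𝒳.isStack.1 f
  have halg : IsAlgStack Scheme.fppfPrecoverage (AlgSt.fullSub 𝒳 (essIm f)) :=
    isAlgStack_of_isEquivOver _ (toEssIm f) he h𝒵
  have hbij := map_bijective_of_isEquivOver he
  refine ⟨⟨inferInstance, halg, smoothLocally_of_isEquivOver _ _ he hred,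
    smoothLocally_of_isEquivOver _ _ he hnoeth, ?_, ?_, ?_⟩, he⟩
  · obtain ⟨p⟩ := hne
    exact ⟨Points.map (toEssIm f) p⟩
  · refine ⟨fun p q => ?_⟩
    obtain ⟨p', rfl⟩ := hbij.2 p
    obtain ⟨q', rfl⟩ := hbij.2 q
    rw [Subsingleton.elim p' q']
  · intro z
    obtain ⟨z', rfl⟩ := hbij.2 z
    rw [← map_comp]
    exact hfx z'

end Groth.Agent.H64.GerbM
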